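import Cfsg.Agent.H212.CovSp.Elts

/-!
# The embedding `Sp_{2a} x Sp_{2b} -> Sp_{2(a+b)}`
-/

set_option autoImplicit false
set_option linter.unusedSectionVars false

namespace Cfsg.Agent.H212.CovSp

open Module Matrix Polynomial Cfsg.Agent.H376

variable {F : Type*} [Field F] {a b : ℕ}

/-- the embedding `Sp_{2a} x Sp_{2b} -> Sp_{2(a+b)}` -/
def bk (F : Type*) [Field F] (a b : ℕ) :
    symplecticGroup (Fin a) F × symplecticGroup (Fin b) F →* symplecticGroup (Fin (a + b)) F :=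
  (SpEmb.reidx finSumFinEquiv).comp (SpEmb.blk (Fin a) (Fin b))

theorem bk_injective : Function.Injective (bk F a b) :=
  (SpEmb.reidx_injective _).comp (SpEmb.blk_injective _ _)

theorem kd_bk (g : symplecticGroup (Fin a) F) (h : symplecticGroup (Fin b) F) (P : F[X]) :
    kd (bk F a b (g, h)).1 P = kd g.1 P + kd h.1 P := by
  have h1 : (bk F a b (g, h)).1 = (SpEmb.blkM g.1 h.1).submatrix
      (Equiv.sumCongr finSumFinEquiv finSumFinEquiv).symm (Equiv.sumCongr finSumFinEquiv finSumFinEquiv).symm := rfl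
  rw [h1, kd_reindex, kd_blkM]

/-- the first component of a vector -/
def pa (a b : ℕ) (v : Fin (a + b) ⊕ Fin (a + b) → F) : Fin a ⊕ Fin a → F :=
  fun i => v (Sum.map (Fin.castAdd b) (Fin.castAdd b) i)

/-- the second component of a vector -/
def pb (a b : ℕ) (v : Fin (a + b) ⊕ Fin (a + b) → F) : Fin b ⊕ Fin b → F :=
  fun i => v (Sum.map (Fin.natAdd a) (Fin.natAdd a) i)

theorem pa_bk (g : symplecticGroup (Fin a) F) (h : symplecticGroup (Fin b) F) (v : Fin (a + b) ⊕ Fin (a + b) → F) :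
    pa a b ((bk F a b (g, h)).1 *ᵥ v) = g.1 *ᵥ pa a b v := by
  ext i
  rcases i with i | i <;>
  simp [pa, bk, SpEmb.reidx, SpEmb.blk, SpEmb.blkM, Matrix.mulVec, dotProduct, Fintype.sum_sum_type, Fin.sum_univ_add,
    fromBlocks, Matrix.toBlocks₁₁, Matrix.toBlocks₁₂, Matrix.toBlocks₂₁, Matrix.toBlocks₂₂]

theorem pb_bk (g : symplecticGroup (Fin a) F) (h : symplecticGroup (Fin b) F) (v : Fin (a + b) ⊕ Fin (a + b) → F) :
    pb a b ((bk F a b (g, h)).1 *ᵥ v) = h.1 *ᵥ pb a b v := by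
  ext i
  rcases i with i | i <;>
  simp [pb, bk, SpEmb.reidx, SpEmb.blk, SpEmb.blkM, Matrix.mulVec, dotProduct, Fintype.sum_sum_type, Fin.sum_univ_add,
    fromBlocks, Matrix.toBlocks₁₁, Matrix.toBlocks₁₂, Matrix.toBlocks₂₁, Matrix.toBlocks₂₂]

theorem fm_pa_pb (v w : Fin (a + b) ⊕ Fin (a + b) → F) :
    fm v w = fm (pa a b v) (pa a b w) + fm (pb a b v) (pb a b w) := by
  rw [fm_eq, fm_eq, fm_eq, Fin.sum_univ_add]
  rfl

theorem ext_pa_pb {v w : Fin (a + b) ⊕ Fin (a + b) → F} (h1 : pa a b v = pa a b w) (h2 : pb a b v = pb a b w) :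
    v = w := by
  ext i
  rcases i with i | i
  · refine Fin.addCases (fun j => ?_) (fun j => ?_) i
    · exact congrFun h1 (Sum.inl j)
    · exact congrFun h2 (Sum.inl j)
  · refine Fin.addCases (fun j => ?_) (fun j => ?_) i
    · exact congrFun h1 (Sum.inr j)
    · exact congrFun h2 (Sum.inr j)

theorem exists_vec (v : Fin a ⊕ Fin a → F) (w : Fin b ⊕ Fin b → F) :
    ∃ x : Fin (a + b) ⊕ Fin (a + b) → F, pa a b x = v ∧ pb a b x = w := by
  refine ⟨Sum.elim (Fin.append (fun i => v (Sum.inl i)) (fun i => w (Sum.inl i)))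
    (Fin.append (fun i => v (Sum.inr i)) (fun i => w (Sum.inr i))), ?_, ?_⟩
  · ext i
    rcases i with i | i <;> simp [pa]
  · ext i
    rcases i with i | i <;> simp [pb]

end Cfsg.Agent.H212.CovSp
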