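import Cfsg.Agent.H212.CovSp.Pos
import Cfsg.Agent.H212.CovSp.Blk
import Cfsg.Agent.H906.Cov.Num

/-!
# The elements of `Sp_{2m}(q)`, `m ≥ 5`, `q` odd, for the row of S2499
-/

set_option autoImplicit false
set_option linter.unusedSectionVars false

namespace Cfsg.Agent.H212.CovSp

open Module Matrix Polynomial Cfsg.Agent.H376 Cfsg.Agent.H278.Cov

section num

theorem pow_eq_one_iff {q l : ℕ} (hq : 2 ≤ q) (i : ℕ) : ((q : ℕ) : ZMod l) ^ i = 1 ↔ l ∣ q ^ i - 1 := by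
  have h1 : 1 ≤ q ^ i := Nat.one_le_pow _ _ (by omega)
  rw [← Nat.modEq_iff_dvd' h1]
  constructor
  · intro h
    apply Nat.ModEq.symm
    rw [← ZMod.natCast_eq_natCast_iff, Nat.cast_pow, Nat.cast_one, h]
  · intro h
    have h2 := (ZMod.natCast_eq_natCast_iff _ _ l).2 h.symm
    rw [Nat.cast_pow, Nat.cast_one] at h2
    exact h2

/-- primes dividing the primitive part -/
theorem ord_of_num {q n k N l : ℕ} (hN : Num q n k N) (hl : l.Prime) (hlN : l ∣ N) (hq : 2 ≤ q) :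
    orderOf ((q : ℕ) : ZMod l) = k := by
  have hk : 0 < k := by
    have h1 := hN.ten
    have h2 := hN.lt
    omega
  rw [orderOf_eq_iff hk]
  refine ⟨(pow_eq_one_iff hq k).2 (hlN.trans hN.dvd), fun i hi1 hi2 h => ?_⟩
  have h2 := (pow_eq_one_iff hq i).1 h
  have h3 := Nat.dvd_gcd hlN h2
  rw [hN.prim i hi2 hi1] at h3
  exact hl.one_lt.ne' (Nat.dvd_one.1 h3)

theorem dvd_plus {q n m N : ℕ} (hN : Num q n (2 * m) N) (hm : 1 ≤ m) : N ∣ q ^ m + 1 := by
  have h1 := hN.dvd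
  have h2 : q ^ (2 * m) - 1 = (q ^ m + 1) * (q ^ m - 1) := by
    have h3 := Nat.sq_sub_sq (q ^ m) 1
    rw [one_pow, ← pow_mul, mul_comm m 2] at h3
    exact h3
  rw [h2] at h1
  exact (hN.prim m hm (by omega)).dvd_of_dvd_mul_right h1

theorem prime_dvd_plus {q m l : ℕ} (hl : l.Prime) (hm : 1 ≤ m) (h : orderOf ((q : ℕ) : ZMod l) = 2 * m) :
    l ∣ q ^ m + 1 := by
  have hlf : Fact l.Prime := ⟨hl⟩
  rw [← ZMod.natCast_eq_zero_iff, Nat.cast_add, Nat.cast_pow, Nat.cast_one]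
  have h1 : ((q : ℕ) : ZMod l) ^ (2 * m) = 1 := by rw [← h, pow_orderOf_eq_one]
  have h2 : ((q : ℕ) : ZMod l) ^ m ≠ 1 := by
    intro h2
    have h3 := orderOf_dvd_of_pow_eq_one h2
    rw [h] at h3
    have := Nat.le_of_dvd (by omega) h3
    omega
  have h3 : (((q : ℕ) : ZMod l) ^ m - 1) * (((q : ℕ) : ZMod l) ^ m + 1) = 0 := by
    have h4 : (((q : ℕ) : ZMod l) ^ m - 1) * (((q : ℕ) : ZMod l) ^ m + 1) = ((q : ℕ) : ZMod l) ^ (2 * m) - 1 := by
      ring
    rw [h4, h1, sub_self]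
  exact (mul_eq_zero.1 h3).resolve_left (sub_ne_zero.2 h2)

theorem ord_dvd_sub {q l k : ℕ} (hl : l.Prime) (hk : 1 ≤ k) (h : orderOf ((q : ℕ) : ZMod l) = k) : k ∣ l - 1 := by
  have hlf : Fact l.Prime := ⟨hl⟩
  rw [← h]
  apply ZMod.orderOf_dvd_card_sub_one
  intro h0
  rw [h0] at h
  have h3 := pow_orderOf_eq_one (0 : ZMod l)
  rw [h, zero_pow (by omega)] at h3
  exact zero_ne_one h3

theorem lt_of_ord {q l k : ℕ} (hl : l.Prime) (hk : 1 ≤ k) (h : orderOf ((q : ℕ) : ZMod l) = k) : k < l := by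
  have h1 := Nat.le_of_dvd (by have := hl.two_le; omega) (ord_dvd_sub hl hk h)
  have := hl.two_le
  omega

theorem lt_of_ord_odd {q l k : ℕ} (hl : l.Prime) (hk : 3 ≤ k) (hodd : Odd k)
    (h : orderOf ((q : ℕ) : ZMod l) = k) : 2 * k < l := by
  have h1 := lt_of_ord hl (by omega) h
  obtain ⟨c, hc⟩ := ord_dvd_sub hl (by omega) h
  have h2 : Odd l := hl.odd_of_ne_two (by omega)
  have h3 : 2 ≤ c := by
    rcases Nat.lt_or_ge c 2 with h4 | h4
    · exfalso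
      interval_cases c
      · omega
      · obtain ⟨d, hd⟩ := hodd
        obtain ⟨e, he⟩ := h2
        omega
    · exact h4
  have h4 : k * 2 ≤ k * c := Nat.mul_le_mul_left k h3
  omega

theorem coprime_of_prime_gt {l r n : ℕ} (hl : l.Prime) (hr : r.Prime) (hrn : r ≤ n) (hnl : n < l) : Nat.Coprime l r :=
  (Nat.coprime_primes hl hr).2 (by omega)

theorem le_of_prime_dvd {r m : ℕ} (hr : r.Prime) (hm : 2 ≤ m) (h : r ∣ 2 * m) : r ≤ m := by
  rcases (Nat.Prime.dvd_mul hr).1 h with h1 | h1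
  · have := Nat.le_of_dvd (by omega) h1
    omega
  · exact Nat.le_of_dvd (by omega) h1

end num

section elems

variable {F : Type*} [Field F] [Fintype F]

theorem two_le_card (F : Type*) [Field F] [Fintype F] : 2 ≤ Fintype.card F := Fintype.one_lt_card

/-- the characteristic divides the order of the field -/
theorem exists_char (F : Type*) [Field F] [Fintype F] :
    ∃ p : ℕ, p.Prime ∧ CharP F p ∧ p ∣ Fintype.card F := by
  obtain ⟨p, hp⟩ := CharP.exists F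
  have hpp : p.Prime := CharP.char_is_prime F p
  obtain ⟨n, -, hn⟩ := FiniteField.card F p
  exact ⟨p, hpp, hp, by rw [hn]; exact dvd_pow_self p n.ne_zero⟩

theorem coprime_char {p N : ℕ} (hpp : p.Prime) (hp : p ∣ Fintype.card F) {j : ℕ} (hj : j ≠ 0)
    (hN : N ∣ Fintype.card F ^ j + 1) : Nat.Coprime N p := by
  rw [Nat.coprime_comm, hpp.coprime_iff_not_dvd]
  intro h
  have h1 := h.trans hN
  have h2 : p ∣ Fintype.card F ^ j := dvd_pow hp hj
  have h3 := (Nat.dvd_add_right h2).1 h1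
  exact hpp.one_lt.ne' (Nat.dvd_one.1 h3)

/-- an element of given order -/
theorem exists_ord {m N : ℕ} (hm : m ≠ 0) (hN : N ∣ Fintype.card F ^ m + 1) :
    ∃ x : symplecticGroup (Fin m) F, orderOf x = N := by
  have h1 := SpEmb.exists_plus F m hm
  rw [Nat.card_eq_fintype_card] at h1
  exact SpEmb.exists_of_dvd (by omega) hN h1

/-- **The element `a`** -/
theorem exists_a (hodd : Odd (Fintype.card F)) {m : ℕ} (hm : 5 ≤ m) :
    ∃ x : symplecticGroup (Fin m) F, Num (Fintype.card F) (2 * m) (2 * m) (orderOf x) ∧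
      ∀ W : Submodule F (Fin m ⊕ Fin m → F), (∀ w ∈ W, x.1 *ᵥ w ∈ W) → W = ⊥ ∨ W = ⊤ := by
  obtain ⟨N, hN⟩ := H906.Cov.exists_num (q := Fintype.card F) (n := 2 * m) (k := 2 * m)
    (FiniteField.isPrimePow_card F) (by omega) le_rfl (by omega)
    (fun h => by rw [h] at hodd; exact absurd hodd (by decide)) (fun h => by omega)
  obtain ⟨x, hx⟩ := exists_ord (F := F) (m := m) (by omega) (dvd_plus hN (by omega))
  refine ⟨x, by rw [hx]; exact hN, fun W hW => ?_⟩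
  obtain ⟨l, hl, hlN, -⟩ := hN.sub
  have hord := ord_of_num hN hl hlN (two_le_card F)
  rw [← Nat.card_eq_fintype_card] at hord
  have hN0 : N ≠ 0 := by
    have := hN.big
    omega
  have hy : orderOf (x ^ (N / l)) = l := by
    rw [← hx] at hlN ⊢
    exact orderOf_pow_orderOf_div (by rw [hx]; exact hN0) hlN
  have hl0 : (l : F) ≠ 0 := cast_ne_zero hl (by rw [hord]; omega)
  have h1 := kd_zero (F := F) hl hy (by rw [Fintype.card_fin]; omega) (by rw [hord, Fintype.card_fin])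
  have h2 := kd_add_range (F := F) (x ^ (N / l)).1
  rw [h1, zero_add, Fintype.card_sum, Fintype.card_fin] at h2
  have h3 : (Matrix.toLin' (x ^ (N / l)).1 : Module.End F (Fin m ⊕ Fin m → F)) ^ l = 1 := by
    rw [← toLin'_coe_pow, orderOf_dvd_iff_pow_eq_one.1 (by rw [hy]), Submonoid.coe_one, Matrix.toLin'_one]
    rfl
  have hWn : ∀ n : ℕ, ∀ w ∈ W, (x ^ n).1 *ᵥ w ∈ W := by
    intro n
    induction n with
    | zero =>
      intro w hw
      rw [pow_zero, Submonoid.coe_one, Matrix.one_mulVec]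
      exact hw
    | succ n ih =>
      intro w hw
      rw [pow_succ, Submonoid.coe_mul, ← Matrix.mulVec_mulVec]
      exact ih _ (hW w hw)
  rcases le_or_ge hl h3 hl0 (by rw [hord]; omega) W (fun w hw => hWn _ w hw) with h4 | h4
  · left
    have h5 := h1
    unfold kd at h5
    rw [ker_sub_one, Submodule.finrank_eq_zero] at h5
    rw [h5] at h4
    exact eq_bot_iff.2 h4
  · right
    have h5 : LinearMap.range ((Matrix.toLin' (x ^ (N / l)).1 : Module.End F (Fin m ⊕ Fin m → F)) - 1) = ⊤ := by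
      apply Submodule.eq_top_of_finrank_eq
      rw [h2, Module.finrank_fintype_fun_eq_card, Fintype.card_sum, Fintype.card_fin]
    rw [h5] at h4
    exact eq_top_iff.2 h4

theorem bk_pow {a b : ℕ} (g : symplecticGroup (Fin a) F) (h : symplecticGroup (Fin b) F) (n : ℕ) :
    (bk F a b (g, h)) ^ n = bk F a b ((g, h) ^ n) := (map_pow _ _ _).symm

theorem kd_one_sp {n : ℕ} : kd (1 : symplecticGroup (Fin n) F).1 (X - C (1 : F)) = 2 * n := by
  rw [Submonoid.coe_one, kd_one', Fintype.card_sum, Fintype.card_fin]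
  omega

theorem fm_ne {v w : Fin 1 ⊕ Fin 1 → F} (hv : v = Sum.elim (fun _ => 0) (fun _ => 1))
    (hw : w = Sum.elim (fun _ => 1) (fun _ => 0)) : fm v w = 1 := by
  subst hv hw
  rw [fm_eq]
  simp

/-- **The element `b`** -/
theorem exists_b (hodd : Odd (Fintype.card F)) {m : ℕ} (hm : 5 ≤ m) :
    ∃ x : symplecticGroup (Fin m) F,
      (∃ n : ℕ, Num (Fintype.card F) (2 * m) (2 * m - 2) (orderOf (x ^ n))) ∧
      (∃ n l : ℕ, l.Prime ∧ (x ^ n) ^ l = 1 ∧ x ^ n ≠ 1 ∧ orderOf ((Nat.card F : ℕ) : ZMod l) = 2 * m - 2 ∧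
        kd (x ^ n).1 (X - C (1 : F)) = 2 ∧
        ∃ v w, (x ^ n).1 *ᵥ v = v ∧ (x ^ n).1 *ᵥ w = w ∧ fm v w ≠ 0) ∧
      (∃ n : ℕ, Nat.Coprime (orderOf (x ^ n)) 2 ∧ kd (x ^ n).1 (X - C (1 : F)) = 2 * m - 1) := by
  obtain ⟨c, rfl⟩ : ∃ c, m = c + 1 := ⟨m - 1, by omega⟩
  have hc2 : 2 * (c + 1) - 2 = 2 * c := by omega
  rw [hc2]
  obtain ⟨N, hN⟩ := H906.Cov.exists_num (q := Fintype.card F) (n := 2 * (c + 1)) (k := 2 * c)
    (FiniteField.isPrimePow_card F) (by omega) (by omega) (by omega)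
    (fun h => by rw [h] at hodd; exact absurd hodd (by decide)) (fun h => by omega)
  have hNd := dvd_plus hN (by omega)
  obtain ⟨g, hg⟩ := exists_ord (F := F) (m := c) (by omega) hNd
  obtain ⟨p, hpp, hp, hpq⟩ := exists_char F
  have hpodd : Odd p := Odd.of_dvd_nat hodd hpq
  have htt : orderOf (tt F) ∣ p := orderOf_dvd_of_pow_eq_one (tt_pow hpp)
  have hco : Nat.Coprime (orderOf g) (orderOf (tt F)) := by
    rw [hg]
    exact (coprime_char hpp hpq (by omega) hNd).coprime_dvd_right htt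
  obtain ⟨n₁, hn₁⟩ := exists_pow_fst hco
  obtain ⟨n₂, hn₂⟩ := exists_pow_snd hco
  obtain ⟨l, hl, hlN, -⟩ := hN.sub
  have hord := ord_of_num hN hl hlN (two_le_card F)
  rw [← Nat.card_eq_fintype_card] at hord
  have hN0 : N ≠ 0 := by
    have := hN.big
    omega
  have hy : orderOf (g ^ (N / l)) = l := by
    rw [← hg] at hlN ⊢
    exact orderOf_pow_orderOf_div (by rw [hg]; exact hN0) hlN
  have hyl : (g ^ (N / l)) ^ l = 1 := orderOf_dvd_iff_pow_eq_one.1 (by rw [hy])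
  have h1 := kd_zero (F := F) hl hy (by rw [Fintype.card_fin]; omega) (by rw [hord, Fintype.card_fin])
  have e1 : (bk F c 1 (g, tt F)) ^ n₁ = bk F c 1 (g, 1) := by rw [bk_pow, hn₁]
  have e2 : (bk F c 1 (g, tt F)) ^ n₂ = bk F c 1 (1, tt F) := by rw [bk_pow, hn₂]
  have e3 : (bk F c 1 (g, tt F)) ^ (n₁ * (N / l)) = bk F c 1 (g ^ (N / l), 1) := by
    rw [pow_mul, e1, bk_pow, Prod.pow_mk, one_pow]
  have hkd : kd (bk F c 1 (g ^ (N / l), 1)).1 (X - C (1 : F)) = 2 := by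
    rw [kd_bk, h1, kd_one_sp]
  refine ⟨bk F c 1 (g, tt F), ⟨n₁, ?_⟩, ⟨n₁ * (N / l), l, hl, ?_, ?_, hord, ?_, ?_⟩, ⟨n₂, ?_, ?_⟩⟩
  · rw [e1, orderOf_injective _ bk_injective, Prod.orderOf_mk, orderOf_one, hg, Nat.lcm_one_right]
    exact hN
  · rw [e3, bk_pow, Prod.pow_mk, hyl, one_pow]
    exact map_one _
  · rw [e3]
    intro h
    have h2 := bk_injective (h.trans (map_one (bk F c 1)).symm)
    have h3 : g ^ (N / l) = 1 := congrArg Prod.fst h2
    rw [h3, orderOf_one] at hy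
    exact hl.one_lt.ne hy
  · rw [e3, hkd]
  · rw [e3]
    obtain ⟨v, hv1, hv2⟩ := exists_vec (0 : Fin c ⊕ Fin c → F) (Sum.elim (fun _ => 0) (fun _ => 1) : Fin 1 ⊕ Fin 1 → F)
    obtain ⟨w, hw1, hw2⟩ := exists_vec (0 : Fin c ⊕ Fin c → F) (Sum.elim (fun _ => 1) (fun _ => 0) : Fin 1 ⊕ Fin 1 → F)
    refine ⟨v, w, ?_, ?_, ?_⟩
    · apply ext_pa_pb
      · rw [pa_bk, hv1, Matrix.mulVec_zero]
      · rw [pb_bk, Submonoid.coe_one, Matrix.one_mulVec]
    · apply ext_pa_pb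
      · rw [pa_bk, hw1, Matrix.mulVec_zero]
      · rw [pb_bk, Submonoid.coe_one, Matrix.one_mulVec]
    · rw [fm_pa_pb, hv1, hw1, hv2, hw2, fm_ne rfl rfl]
      unfold fm
      rw [zero_dotProduct, zero_add]
      exact one_ne_zero
  · rw [e2, orderOf_injective _ bk_injective, Prod.orderOf_mk, orderOf_one, Nat.lcm_one_left]
    exact Nat.Coprime.coprime_dvd_left htt (Nat.coprime_two_right.2 hpodd)
  · rw [e2, kd_bk, kd_one_sp, kd_tt]
    omega

/-- the order of `ss` is prime to primitive primes -/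
theorem coprime_ss {τ : F} {l b : ℕ} (hl : l.Prime) (hb : 3 ≤ b) (h : orderOf ((Nat.card F : ℕ) : ZMod l) = b) :
    Nat.Coprime l (orderOf (ss τ)) := by
  rw [hl.coprime_iff_not_dvd]
  intro hd
  have hl0 : (l : F) ≠ 0 := cast_ne_zero hl (by rw [h]; omega)
  have hs0 : 0 < orderOf (ss τ) := orderOf_pos _
  obtain ⟨z, hz⟩ : ∃ z : symplecticGroup (Fin 1) F, orderOf z = l :=
    ⟨_, orderOf_pow_orderOf_div hs0.ne' hd⟩
  have h1 : z ≠ 1 := by
    rintro rfl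
    rw [orderOf_one] at hz
    exact hl.one_lt.ne hz
  have h2 : (Matrix.toLin' z.1 : Module.End F (Fin 1 ⊕ Fin 1 → F)) ^ l = 1 := by
    rw [← toLin'_coe_pow, orderOf_dvd_iff_pow_eq_one.1 (by rw [hz]), Submonoid.coe_one, Matrix.toLin'_one]
    rfl
  have h3 := le_range hl h2 hl0 (toLin'_ne_one h1)
  have h4 := kd_add_range (F := F) z.1
  rw [Fintype.card_sum, Fintype.card_fin] at h4
  omega

/-- a symplectic element of `Sp_2` or `Sp_4` without eigenvectors -/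
theorem exists_s {l b d : ℕ} (hl : l.Prime) (hb : 3 ≤ b) (h : orderOf ((Nat.card F : ℕ) : ZMod l) = b)
    (hd : d = 1 ∨ d = 2) : ∃ s : symplecticGroup (Fin d) F, Nat.Coprime l (orderOf s) ∧
      ∀ a : F, kd s.1 (X - C a) = 0 := by
  obtain ⟨τ, hτ⟩ := exists_tau (F := F)
  rcases hd with rfl | rfl
  · exact ⟨ss τ, coprime_ss hl hb h, kd_ss hτ⟩
  · refine ⟨bk F 1 1 (ss τ, ss τ), ?_, fun a => ?_⟩
    · rw [orderOf_injective _ bk_injective, Prod.orderOf_mk, Nat.lcm_self]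
      exact coprime_ss hl hb h
    · rw [kd_bk, kd_ss hτ]

/-- **The element `c₁`** -/
theorem exists_c1 (hodd : Odd (Fintype.card F)) {m : ℕ} (hm : 5 ≤ m) :
    ∃ x : symplecticGroup (Fin m) F, (∀ a : F, kd x.1 (X - C a) = 0) ∧
      ∀ r : ℕ, r.Prime → r ∣ 2 * m → ∃ (n : ℕ) (P : F[X]), Nat.Coprime (orderOf (x ^ n)) r ∧ ¬ r ∣ kd (x ^ n).1 P := by
  obtain ⟨b, d, hd, hb, hbodd, rfl⟩ : ∃ b d : ℕ, (d = 1 ∨ d = 2) ∧ 3 ≤ b ∧ Odd b ∧ m = b + d := by
    rcases Nat.even_or_odd m with h | h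
    · obtain ⟨c, hc⟩ := h
      exact ⟨m - 1, 1, Or.inl rfl, by omega, ⟨c - 1, by omega⟩, by omega⟩
    · obtain ⟨c, hc⟩ := h
      exact ⟨m - 2, 2, Or.inr rfl, by omega, ⟨c - 1, by omega⟩, by omega⟩
  obtain ⟨l, hl, hord⟩ := Lib.Zsigmondy.exists_prime_orderOf (a := Nat.card F) (n := b)
    (by rw [Nat.card_eq_fintype_card]; exact two_le_card F) (by omega) (fun h => by omega)
    (fun h => by rw [Nat.card_eq_fintype_card] at h; rw [h.1] at hodd; exact absurd hodd (by decide))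
  obtain ⟨g, P, hg, hP1, hP2, hP3⟩ := exists_pos F hbodd hb hl hord
  obtain ⟨s, hs1, hs2⟩ := exists_s hl hb hord hd
  have hlb := lt_of_ord_odd hl hb hbodd hord
  have hco : Nat.Coprime (orderOf g) (orderOf s) := by rw [hg]; exact hs1
  obtain ⟨n₁, hn₁⟩ := exists_pow_fst hco
  have e1 : (bk F b d (g, s)) ^ n₁ = bk F b d (g, 1) := by rw [bk_pow, hn₁]
  refine ⟨bk F b d (g, s), fun a => ?_, fun r hr hrm => ⟨n₁, P, ?_, ?_⟩⟩
  · rw [kd_bk, hP3, hs2]
  · rw [e1, orderOf_injective _ bk_injective, Prod.orderOf_mk, orderOf_one, Nat.lcm_one_right, hg]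
    exact coprime_of_prime_gt hl hr (le_of_prime_dvd hr (by omega) hrm) (by omega)
  · rw [e1, kd_bk, hP2, Submonoid.coe_one, kd_one P hP1, add_zero]
    intro hrb
    -- `r` is odd, divides `b` and `2 (b + d)`
    have h1 : r ≠ 2 := by
      rintro rfl
      obtain ⟨c, hc⟩ := hbodd
      omega
    have h2 : r ∣ b + d := ((Nat.Prime.dvd_mul hr).1 hrm).resolve_left fun h =>
      h1 ((Nat.prime_dvd_prime_iff_eq hr Nat.prime_two).1 h)
    have h3 : r ∣ d := (Nat.dvd_add_right hrb).1 h2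
    rcases hd with rfl | rfl
    · exact hr.one_lt.ne' (Nat.dvd_one.1 h3)
    · exact h1 ((Nat.prime_dvd_prime_iff_eq hr Nat.prime_two).1 h3)

/-- **The element `c₂`** -/
theorem exists_c2 (hodd : Odd (Fintype.card F)) {m : ℕ} (hm : 5 ≤ m) :
    ∃ x : symplecticGroup (Fin m) F,
      (∃ n n' l k : ℕ, l.Prime ∧ (x ^ n) ^ l = 1 ∧ x ^ n ≠ 1 ∧ orderOf ((Nat.card F : ℕ) : ZMod l) = 2 * m - 4 ∧
        kd (x ^ n).1 (X - C (1 : F)) = 4 ∧ ((x ^ n').1 - 1) ^ k = 0 ∧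
        ∀ v w, (x ^ n).1 *ᵥ v = v → (x ^ n).1 *ᵥ w = w →
          (x ^ n').1 *ᵥ ((x ^ n').1 *ᵥ v - v) - ((x ^ n').1 *ᵥ v - v) = 0 →
          (x ^ n').1 *ᵥ ((x ^ n').1 *ᵥ w - w) - ((x ^ n').1 *ᵥ w - w) = 0 → fm v w = 0) ∧
      ∀ r : ℕ, r.Prime → r ∣ 2 * m → ∃ (n : ℕ) (P : F[X]), Nat.Coprime (orderOf (x ^ n)) r ∧ ¬ r ∣ kd (x ^ n).1 P := by
  obtain ⟨c, rfl⟩ : ∃ c, m = c + 2 := ⟨m - 2, by omega⟩
  have hc2 : 2 * (c + 2) - 4 = 2 * c := by omega
  rw [hc2]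
  obtain ⟨l, hl, hord⟩ := Lib.Zsigmondy.exists_prime_orderOf (a := Nat.card F) (n := 2 * c)
    (by rw [Nat.card_eq_fintype_card]; exact two_le_card F) (by omega) (fun h => by omega)
    (fun h => by rw [Nat.card_eq_fintype_card] at h; rw [h.1] at hodd; exact absurd hodd (by decide))
  have hlc := lt_of_ord hl (by omega) hord
  have hld := prime_dvd_plus hl (by omega) hord
  rw [Nat.card_eq_fintype_card] at hld
  obtain ⟨g, hg⟩ := exists_ord (F := F) (m := c) (by omega) hld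
  obtain ⟨p, hpp, hp, hpq⟩ := exists_char F
  have hpodd : Odd p := Odd.of_dvd_nat hodd hpq
  have huu : orderOf (uu F) ∣ p ^ 2 := orderOf_dvd_of_pow_eq_one (uu_pow hpp)
  have hco : Nat.Coprime (orderOf g) (orderOf (uu F)) := by
    rw [hg]
    exact ((coprime_char hpp hpq (by omega) hld).pow_right 2).coprime_dvd_right huu
  obtain ⟨n₁, hn₁⟩ := exists_pow_fst hco
  obtain ⟨n₂, hn₂⟩ := exists_pow_snd hco
  have hgl : g ^ l = 1 := orderOf_dvd_iff_pow_eq_one.1 (by rw [hg])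
  have h1 := kd_zero (F := F) hl hg (by rw [Fintype.card_fin]; omega) (by rw [hord, Fintype.card_fin])
  have e1 : (bk F c 2 (g, uu F)) ^ n₁ = bk F c 2 (g, 1) := by rw [bk_pow, hn₁]
  have e2 : (bk F c 2 (g, uu F)) ^ n₂ = bk F c 2 (1, uu F) := by rw [bk_pow, hn₂]
  have hkd : kd (bk F c 2 (g, 1)).1 (X - C (1 : F)) = 4 := by
    rw [kd_bk, h1, kd_one_sp]
  have hpf : Fact p.Prime := ⟨hpp⟩
  have hup : ((bk F c 2 (1, uu F)).1 - 1) ^ p ^ 2 = 0 := by
    have h6 : ((bk F c 2 (1, uu F)).1 - 1) ^ p ^ 2 = (bk F c 2 (1, uu F)).1 ^ p ^ 2 - 1 ^ p ^ 2 :=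
      sub_pow_char_pow_of_commute _ _ (Commute.one_right _)
    rw [h6, ← SubmonoidClass.coe_pow, bk_pow, Prod.pow_mk, one_pow, uu_pow hpp, one_pow, ← Prod.one_eq_mk, map_one,
      Submonoid.coe_one, sub_self]
  refine ⟨bk F c 2 (g, uu F), ⟨n₁, n₂, l, p ^ 2, hl, ?_, ?_, hord, ?_, ?_, ?_⟩, fun r hr hrm => ?_⟩
  · rw [e1, bk_pow, Prod.pow_mk, hgl, one_pow]
    exact map_one _
  · rw [e1]
    intro h
    have h2 := bk_injective (h.trans (map_one (bk F c 2)).symm)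
    have h3 : g = 1 := congrArg Prod.fst h2
    rw [h3, orderOf_one] at hg
    exact hl.one_lt.ne hg
  · rw [e1, hkd]
  · rw [e2, hup]
  · rw [e1, e2]
    intro v w hv hw hv2 hw2
    have hfix : ∀ v, (bk F c 2 (g, 1)).1 *ᵥ v = v → pa c 2 v = 0 := by
      intro v hv
      apply eq_zero_of_kd (a := 1) h1
      rw [one_smul, ← pa_bk g 1 v, hv]
    have huv : ∀ v, (bk F c 2 (1, uu F)).1 *ᵥ ((bk F c 2 (1, uu F)).1 *ᵥ v - v) -
        ((bk F c 2 (1, uu F)).1 *ᵥ v - v) = 0 → ∀ i, pb c 2 v (Sum.inr i) = 0 := by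
      intro v hv
      apply uu_lag
      have h2 : ∀ x y : Fin (c + 2) ⊕ Fin (c + 2) → F, pb c 2 (x - y) = pb c 2 x - pb c 2 y := fun x y => rfl
      have h3 := congrArg (pb c 2) hv
      rw [h2, pb_bk, h2, pb_bk] at h3
      exact h3
    rw [fm_pa_pb, hfix v hv]
    have h4 : fm (pb c 2 v) (pb c 2 w) = 0 := by
      rw [fm_eq]
      apply Finset.sum_eq_zero
      intro i _
      rw [huv v hv2 i, huv w hw2 i, zero_mul, mul_zero, sub_zero]
    rw [h4, add_zero]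
    unfold fm
    rw [zero_dotProduct]
  · by_cases hr2 : r = 2
    · subst hr2
      refine ⟨n₂, X - C 1, ?_, ?_⟩
      · rw [e2, orderOf_injective _ bk_injective, Prod.orderOf_mk, orderOf_one, Nat.lcm_one_left]
        exact Nat.Coprime.coprime_dvd_left huu ((Nat.coprime_two_right.2 hpodd).pow_left 2)
      · rw [e2, kd_bk, kd_one_sp, kd_uu]
        omega
    · refine ⟨n₁, X - C 1, ?_, ?_⟩
      · rw [e1, orderOf_injective _ bk_injective, Prod.orderOf_mk, orderOf_one, Nat.lcm_one_right, hg]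
        exact coprime_of_prime_gt hl hr (le_of_prime_dvd hr (by omega) hrm) (by omega)
      · rw [e1, hkd]
        intro h
        have h2 : r ∣ 2 ^ 2 := h
        exact hr2 ((Nat.prime_dvd_prime_iff_eq hr Nat.prime_two).1 (hr.dvd_of_dvd_pow h2))

end elems

end Cfsg.Agent.H212.CovSp
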