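import Cfsg.Agent.H376.SpEmb

/-!
# Linear algebra for the symplectic rows of S2499

* `le_or_ge` : invariant subspaces of an element of prime order whose commutator space is irreducible;
* `kd x P` : the dimension of the kernel of `P(x)`; invariance under conjugation, blocks, reindexing;
* vectors of a block sum.
-/

set_option autoImplicit false
set_option linter.unusedSectionVars false

namespace Cfsg.Agent.H212.CovSp

open Module Matrix Polynomial Cfsg.Agent.H376

universe u v

section prime

variable {F V : Type*} [Field F] [Finite F] [AddCommGroup V] [Module F V] [FiniteDimensional F V]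

/-- an element of prime order different from `1`: its commutator space is large -/
theorem le_range {g : Module.End F V} {r : ℕ} (hrp : r.Prime) (hg : g ^ r = 1) (hr : (r : F) ≠ 0) (hg1 : g ≠ 1) :
    orderOf ((Nat.card F : ℕ) : ZMod r) ≤ finrank F (LinearMap.range (g - 1)) := by
  have h1 := PrimeOrd.ord_dvd hrp hg hr _ (PrimeOrd.range_mem (A := g) (B := g) rfl) le_rfl
  have h2 : 0 < finrank F (LinearMap.range (g - 1)) :=
    Module.finrank_pos_iff.2 (Submodule.nontrivial_iff_ne_bot.2 (PrimeOrd.range_ne_bot hg1))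
  exact Nat.le_of_dvd h2 h1

/-- **Invariant subspaces**: inside the fixed space, or over the commutator space. -/
theorem le_or_ge {g : Module.End F V} {r : ℕ} (hrp : r.Prime) (hg : g ^ r = 1) (hr : (r : F) ≠ 0)
    (hd : finrank F (LinearMap.range (g - 1)) ≤ orderOf ((Nat.card F : ℕ) : ZMod r))
    (W : Submodule F V) (hW : ∀ w ∈ W, g w ∈ W) :
    W ≤ LinearMap.ker (g - 1) ∨ LinearMap.range (g - 1) ≤ W := by
  by_cases h : W ≤ LinearMap.ker (g - 1)
  · exact Or.inl h
  right
  obtain ⟨U, hU⟩ : ∃ U, U = W.map (g - 1) := ⟨_, rfl⟩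
  have hUr : U ≤ LinearMap.range (g - 1) := by
    rw [hU]
    exact LinearMap.map_le_range
  have hUg : ∀ u ∈ U, g u ∈ U := by
    intro u hu
    rw [hU] at hu ⊢
    obtain ⟨w, hw, rfl⟩ := hu
    exact ⟨g w, hW w hw, by simp⟩
  have hUW : U ≤ W := by
    rw [hU]
    rintro _ ⟨w, hw, rfl⟩
    exact W.sub_mem (hW w hw) hw
  have hU0 : U ≠ ⊥ := by
    intro h0
    apply h
    intro w hw
    have h1 : (g - 1) w ∈ U := by rw [hU]; exact ⟨w, hw, rfl⟩
    rw [h0, Submodule.mem_bot] at h1
    exact h1
  have h1 := PrimeOrd.ord_dvd hrp hg hr U hUg hUr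
  have h2 : 0 < finrank F U := Module.finrank_pos_iff.2 (Submodule.nontrivial_iff_ne_bot.2 hU0)
  have h3 := Nat.le_of_dvd h2 h1
  have h4 : U = LinearMap.range (g - 1) := Submodule.eq_of_le_of_finrank_le hUr (by omega)
  rw [← h4]
  exact hUW

end prime

section kd

variable {ι : Type*} [Fintype ι] [DecidableEq ι] {F : Type*} [Field F]

/-- the dimension of the kernel of `P(x)` -/
noncomputable def kd (x : Matrix ι ι F) (P : F[X]) : ℕ :=
  finrank F (LinearMap.ker (Polynomial.aeval (Matrix.toLin' x) P))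

theorem kd_eq {ι' : Type*} [Fintype ι'] [DecidableEq ι'] {x : Matrix ι ι F} {y : Matrix ι' ι' F}
    (e : (ι → F) ≃ₗ[F] (ι' → F)) (h : ∀ v, e (x *ᵥ v) = y *ᵥ (e v)) (P : F[X]) : kd x P = kd y P := by
  have h1 : ∀ v, e ((Polynomial.aeval (Matrix.toLin' x) P) v) = (Polynomial.aeval (Matrix.toLin' y) P) (e v) := by
    intro v
    induction P using Polynomial.induction_on' generalizing v with
    | add p q hp hq => rw [map_add, map_add, LinearMap.add_apply, LinearMap.add_apply, map_add, hp, hq]
    | monomial n a =>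
      rw [Polynomial.aeval_monomial, Polynomial.aeval_monomial]
      have h2 : ∀ w, e ((Matrix.toLin' x ^ n) w) = (Matrix.toLin' y ^ n) (e w) := by
        intro w
        induction n generalizing w with
        | zero => rfl
        | succ n ih =>
          rw [pow_succ, pow_succ, Module.End.mul_apply, Module.End.mul_apply, ih, Matrix.toLin'_apply,
            Matrix.toLin'_apply, h]
      rw [Module.End.mul_apply, Module.End.mul_apply, Module.algebraMap_end_apply, Module.algebraMap_end_apply,
        map_smul, h2]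
  have h2 : (LinearMap.ker (Polynomial.aeval (Matrix.toLin' x) P)).map (e : (ι → F) →ₗ[F] (ι' → F)) =
      LinearMap.ker (Polynomial.aeval (Matrix.toLin' y) P) := by
    ext w
    rw [Submodule.mem_map, LinearMap.mem_ker]
    constructor
    · rintro ⟨v, hv, rfl⟩
      rw [LinearMap.mem_ker] at hv
      have h3 := h1 v
      rw [hv, map_zero] at h3
      exact h3.symm
    · intro hw
      refine ⟨e.symm w, ?_, e.apply_symm_apply w⟩
      rw [LinearMap.mem_ker]
      apply e.injective
      rw [h1, e.apply_symm_apply, hw, map_zero]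
  unfold kd
  rw [← h2]
  exact (LinearEquiv.finrank_map_eq e _).symm

/-- invariance under conjugation -/
theorem kd_conj (g : GL ι F) (x : Matrix ι ι F) (P : F[X]) :
    kd ((g : Matrix ι ι F) * x * ((g⁻¹ : GL ι F) : Matrix ι ι F)) P = kd x P := by
  symm
  have h1 : (g : Matrix ι ι F) * ((g⁻¹ : GL ι F) : Matrix ι ι F) = 1 := by
    rw [← Units.val_mul, mul_inv_cancel, Units.val_one]
  have h2 : ((g⁻¹ : GL ι F) : Matrix ι ι F) * (g : Matrix ι ι F) = 1 := by
    rw [← Units.val_mul, inv_mul_cancel, Units.val_one]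
  let e : (ι → F) ≃ₗ[F] (ι → F) := LinearEquiv.ofLinearMap (Matrix.toLin' (g : Matrix ι ι F))
    (Matrix.toLin' ((g⁻¹ : GL ι F) : Matrix ι ι F))
    (by rw [← Matrix.toLin'_mul, h1, Matrix.toLin'_one]) (by rw [← Matrix.toLin'_mul, h2, Matrix.toLin'_one])
  have he : ∀ v, e v = (g : Matrix ι ι F) *ᵥ v := fun v => Matrix.toLin'_apply _ _
  refine kd_eq e (fun v => ?_) P
  rw [he, he, Matrix.mulVec_mulVec, Matrix.mulVec_mulVec, mul_assoc _ _ (g : Matrix ι ι F), h2, mul_one]

theorem mem_ker_X_sub_C {x : Matrix ι ι F} {a : F} {v : ι → F} :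
    v ∈ LinearMap.ker (Polynomial.aeval (Matrix.toLin' x) (X - C a)) ↔ x *ᵥ v = a • v := by
  rw [LinearMap.mem_ker, map_sub, Polynomial.aeval_X, Polynomial.aeval_C, LinearMap.sub_apply,
    Module.algebraMap_end_apply, Matrix.toLin'_apply, sub_eq_zero]

theorem kd_X_sub_C_eq_zero {x : Matrix ι ι F} {a : F} (h : ∀ v, x *ᵥ v = a • v → v = 0) : kd x (X - C a) = 0 := by
  unfold kd
  rw [Submodule.finrank_eq_zero, eq_bot_iff]
  intro v hv
  exact h v (mem_ker_X_sub_C.1 hv)

theorem eq_zero_of_kd {x : Matrix ι ι F} {a : F} (h : kd x (X - C a) = 0) {v : ι → F} (hv : x *ᵥ v = a • v) :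
    v = 0 := by
  unfold kd at h
  rw [Submodule.finrank_eq_zero] at h
  have h1 := mem_ker_X_sub_C.2 hv
  rwa [h] at h1

theorem kd_one (P : F[X]) (hP : P.eval 1 ≠ 0) : kd (1 : Matrix ι ι F) P = 0 := by
  unfold kd
  rw [Submodule.finrank_eq_zero, eq_bot_iff]
  intro v hv
  rw [LinearMap.mem_ker, Matrix.toLin'_one] at hv
  have h1 : Polynomial.aeval (LinearMap.id : (ι → F) →ₗ[F] (ι → F)) P = algebraMap F _ (P.eval 1) := by
    have h2 : (LinearMap.id : (ι → F) →ₗ[F] (ι → F)) = algebraMap F _ 1 := by rw [map_one]; rfl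
    rw [h2, Polynomial.aeval_algebraMap_apply_eq_algebraMap_eval]
  rw [h1, Module.algebraMap_end_apply] at hv
  exact (smul_eq_zero.1 hv).resolve_left hP

theorem kd_one' : kd (1 : Matrix ι ι F) (X - C (1 : F)) = Fintype.card ι := by
  unfold kd
  have h1 : LinearMap.ker (Polynomial.aeval (Matrix.toLin' (1 : Matrix ι ι F)) (X - C (1 : F))) = ⊤ := by
    rw [eq_top_iff]
    intro v _
    rw [mem_ker_X_sub_C, Matrix.one_mulVec, one_smul]
  rw [h1, finrank_top, Module.finrank_fintype_fun_eq_card]

end kd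

section blocks

variable {F : Type*} [Field F] {α β : Type*} [Fintype α] [DecidableEq α] [Fintype β] [DecidableEq β]

/-- the kernel dimensions of a block diagonal matrix -/
theorem kd_fromBlocks (A : Matrix α α F) (D : Matrix β β F) (P : F[X]) :
    kd (fromBlocks A 0 0 D) P = kd A P + kd D P := by
  let e : (α ⊕ β → F) ≃ₗ[F] (α → F) × (β → F) := LinearEquiv.sumArrowLequivProdArrow α β F F
  have he : ∀ v : α ⊕ β → F, e v = (fun i => v (Sum.inl i), fun j => v (Sum.inr j)) := fun v => rfl
  have h0 : ∀ v : α ⊕ β → F, e (fromBlocks A 0 0 D *ᵥ v) = (A *ᵥ (e v).1, D *ᵥ (e v).2) := by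
    intro v
    rw [Matrix.fromBlocks_mulVec, he, he]
    simp only [Matrix.zero_mulVec, add_zero, zero_add]
    rfl
  have h1 : ∀ v, e ((Polynomial.aeval (Matrix.toLin' (fromBlocks A 0 0 D)) P) v) =
      ((Polynomial.aeval (Matrix.toLin' A) P) (e v).1, (Polynomial.aeval (Matrix.toLin' D) P) (e v).2) := by
    intro v
    induction P using Polynomial.induction_on' generalizing v with
    | add p q hp hq =>
      rw [map_add, map_add, map_add, LinearMap.add_apply, LinearMap.add_apply, LinearMap.add_apply, map_add, hp, hq]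
      rfl
    | monomial n a =>
      rw [Polynomial.aeval_monomial, Polynomial.aeval_monomial, Polynomial.aeval_monomial]
      have h2 : ∀ w, e ((Matrix.toLin' (fromBlocks A 0 0 D) ^ n) w) =
          ((Matrix.toLin' A ^ n) (e w).1, (Matrix.toLin' D ^ n) (e w).2) := by
        intro w
        induction n generalizing w with
        | zero => rfl
        | succ n ih =>
          rw [pow_succ, pow_succ, pow_succ, Module.End.mul_apply, Module.End.mul_apply, Module.End.mul_apply, ih,
            Matrix.toLin'_apply, Matrix.toLin'_apply, Matrix.toLin'_apply, h0]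
      rw [Module.End.mul_apply, Module.End.mul_apply, Module.End.mul_apply, Module.algebraMap_end_apply,
        Module.algebraMap_end_apply, Module.algebraMap_end_apply, map_smul, h2]
      rfl
  have h2 : LinearMap.ker (Polynomial.aeval (Matrix.toLin' (fromBlocks A 0 0 D)) P) ≃ₗ[F]
      LinearMap.ker (Polynomial.aeval (Matrix.toLin' A) P) × LinearMap.ker (Polynomial.aeval (Matrix.toLin' D) P) :=
    { toFun := fun v => (⟨(e v.1).1, by
          have h3 := h1 v.1
          rw [LinearMap.mem_ker.1 v.2, map_zero] at h3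
          exact (congrArg Prod.fst h3).symm⟩, ⟨(e v.1).2, by
          have h3 := h1 v.1
          rw [LinearMap.mem_ker.1 v.2, map_zero] at h3
          exact (congrArg Prod.snd h3).symm⟩)
      invFun := fun w => ⟨e.symm (w.1.1, w.2.1), by
        rw [LinearMap.mem_ker]
        apply e.injective
        rw [h1, e.apply_symm_apply, map_zero]
        exact Prod.ext w.1.2 w.2.2⟩
      map_add' := fun _ _ => rfl
      map_smul' := fun _ _ => rfl
      left_inv := fun v => Subtype.ext (e.symm_apply_apply v.1)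
      right_inv := fun w => Prod.ext (Subtype.ext (by simp [e.apply_symm_apply]))
        (Subtype.ext (by simp [e.apply_symm_apply])) }
  unfold kd
  rw [h2.finrank_eq, Module.finrank_prod]

/-- reordering the basis of the sum of two symplectic spaces -/
def sw (α β : Type*) (F : Type*) [Field F] : ((α ⊕ β) ⊕ (α ⊕ β) → F) ≃ₗ[F] ((α ⊕ α) ⊕ (β ⊕ β) → F) :=
  LinearEquiv.funCongrLeft F F (Equiv.sumSumSumComm α α β β)

theorem sw_apply (v : (α ⊕ β) ⊕ (α ⊕ β) → F) (i : (α ⊕ α) ⊕ (β ⊕ β)) :
    sw α β F v i = v (Equiv.sumSumSumComm α α β β i) := rfl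

theorem sw_blk (g : Matrix (α ⊕ α) (α ⊕ α) F) (h : Matrix (β ⊕ β) (β ⊕ β) F) (v : (α ⊕ β) ⊕ (α ⊕ β) → F) :
    sw α β F (SpEmb.blkM g h *ᵥ v) = fromBlocks g 0 0 h *ᵥ (sw α β F v) := by
  ext i
  rcases i with (i | i) | (i | i) <;>
  simp [sw_apply, SpEmb.blkM, Matrix.mulVec, dotProduct, Fintype.sum_sum_type, fromBlocks, Matrix.toBlocks₁₁,
    Matrix.toBlocks₁₂, Matrix.toBlocks₂₁, Matrix.toBlocks₂₂]

theorem kd_blkM (g : Matrix (α ⊕ α) (α ⊕ α) F) (h : Matrix (β ⊕ β) (β ⊕ β) F) (P : F[X]) :
    kd (SpEmb.blkM g h) P = kd g P + kd h P := by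
  rw [kd_eq (sw α β F) (sw_blk g h), kd_fromBlocks]

/-- reindexing -/
theorem kd_reindex (e : α ≃ β) (x : Matrix α α F) (P : F[X]) : kd (x.submatrix e.symm e.symm) P = kd x P := by
  symm
  refine kd_eq (LinearEquiv.funCongrLeft F F e.symm) (fun v => ?_) P
  ext i
  simp only [LinearEquiv.funCongrLeft_apply, LinearMap.funLeft_apply, Matrix.mulVec, dotProduct,
    Matrix.submatrix_apply]
  exact (Fintype.sum_equiv e.symm _ _ fun j => rfl).symm

end blocks

end Cfsg.Agent.H212.CovSp
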