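import Cfsg.Agent.H212.CovSp.Elts

/-!
# The elements `pos b` for the rows of S2499

`exists_pos` : `b` odd, `l` a primitive prime divisor of `q ^ b - 1`: an element of order `l` of `Sp_{2b}(q)` without
eigenvectors, with a kernel of dimension `b`.
-/

set_option autoImplicit false
set_option linter.unusedSectionVars false

namespace Cfsg.Agent.H212.CovSp

open Module Matrix Polynomial Cfsg.Agent.H376

section units

variable {F : Type*} [Field F] {α : Type*} [Fintype α] [DecidableEq α]

theorem aeval_toLin' (A : Matrix α α F) (P : F[X]) :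
    Polynomial.aeval (Matrix.toLin' A) P = Matrix.toLin' (Polynomial.aeval A P) :=
  Polynomial.aeval_algHom_apply (Matrix.toLinAlgEquiv' : Matrix α α F ≃ₐ[F] _).toAlgHom A P

theorem aeval_transpose (A : Matrix α α F) (P : F[X]) :
    Polynomial.aeval Aᵀ P = (Polynomial.aeval A P)ᵀ := by
  induction P using Polynomial.induction_on' with
  | add p q hp hq => rw [map_add, map_add, hp, hq, Matrix.transpose_add]
  | monomial n a =>
    have h1 : (algebraMap F (Matrix α α F) a)ᵀ = algebraMap F (Matrix α α F) a := by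
      rw [Matrix.algebraMap_eq_diagonal, Matrix.diagonal_transpose]
    rw [Polynomial.aeval_monomial, Polynomial.aeval_monomial, Matrix.transpose_mul, Matrix.transpose_pow, h1]
    exact Algebra.commutes _ _

theorem kd_of_isUnit {A : Matrix α α F} {P : F[X]} (h : IsUnit (Polynomial.aeval A P)) : kd A P = 0 := by
  unfold kd
  rw [Submodule.finrank_eq_zero, aeval_toLin', eq_bot_iff]
  intro v hv
  rw [LinearMap.mem_ker, Matrix.toLin'_apply] at hv
  obtain ⟨u, hu⟩ := h
  rw [← hu] at hv
  have h1 : ((u⁻¹ : (Matrix α α F)ˣ) : Matrix α α F) *ᵥ ((u : Matrix α α F) *ᵥ v) = v := by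
    rw [Matrix.mulVec_mulVec, ← Units.val_mul, inv_mul_cancel, Units.val_one, Matrix.one_mulVec]
  rw [hv, Matrix.mulVec_zero] at h1
  exact h1.symm

theorem kd_of_zero {A : Matrix α α F} {P : F[X]} (h : Polynomial.aeval A P = 0) : kd A P = Fintype.card α := by
  unfold kd
  rw [aeval_toLin', h, map_zero, LinearMap.ker_zero, finrank_top, Module.finrank_fintype_fun_eq_card]

theorem kd_transpose_of_isUnit {A : Matrix α α F} {P : F[X]} (h : IsUnit (Polynomial.aeval A P)) :
    kd Aᵀ P = 0 := by
  apply kd_of_isUnit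
  rw [aeval_transpose]
  exact (Matrix.isUnit_transpose _).2 h

end units

section field

variable {F K : Type*} [Field F] [Field K] [Algebra F K] [Finite K]

theorem aeval_inv_ne (hodd : Odd (finrank F K)) {x : K} (hx0 : x ≠ 0) (hx : x ^ 2 ≠ 1) :
    Polynomial.aeval x⁻¹ (minpoly F x) ≠ 0 := by
  intro h
  have hF : Finite F := Finite.of_injective (algebraMap F K) (algebraMap F K).injective
  have hfd : FiniteDimensional F K := Module.Finite.of_finite
  have hG : IsGalois F K := inferInstance
  have hint : IsIntegral F x := IsIntegral.of_finite F x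
  have h1 : minpoly F x = minpoly F x⁻¹ :=
    minpoly.eq_of_irreducible_of_monic (minpoly.irreducible hint) h (minpoly.monic hint)
  obtain ⟨σ, hσ⟩ := isConjRoot_iff_exists_algEquiv.1 (show IsConjRoot F x x⁻¹ from h1)
  -- `σ x⁻¹ = x`
  have h2 : σ x = x⁻¹ := by
    rw [map_inv₀] at hσ
    exact inv_eq_iff_eq_inv.1 hσ
  have h3 : (σ ^ 2) x = x := by
    rw [pow_two, AlgEquiv.mul_apply, h2, map_inv₀, h2, inv_inv]
  have h4 : Odd (orderOf σ) := by
    refine Odd.of_dvd_nat hodd ?_
    rw [← IsGalois.card_aut_eq_finrank]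
    exact orderOf_dvd_natCard σ
  obtain ⟨c, hc⟩ := h4
  have h5 : ∀ k : ℕ, ((σ ^ 2) ^ k) x = x := by
    intro k
    induction k with
    | zero => rfl
    | succ k ih => rw [pow_succ, AlgEquiv.mul_apply, h3, ih]
  have h6 : σ = (σ ^ 2) ^ (c + 1) := by
    rw [← pow_mul, show 2 * (c + 1) = (2 * c + 1) + 1 by ring, pow_succ, ← hc, pow_orderOf_eq_one, one_mul]
  have h7 : σ x = x := by rw [h6]; exact h5 _
  rw [h7] at h2
  apply hx
  rw [pow_two]
  nth_rw 2 [h2]
  exact mul_inv_cancel₀ hx0

end field

/-- **The element `pos b`.** -/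
theorem exists_pos (F : Type*) [Field F] [Finite F] {b l : ℕ} (hb : Odd b) (hb3 : 3 ≤ b) (hl : l.Prime)
    (h : orderOf ((Nat.card F : ℕ) : ZMod l) = b) :
    ∃ (g : symplecticGroup (Fin b) F) (P : F[X]), orderOf g = l ∧ P.eval 1 ≠ 0 ∧ kd g.1 P = b ∧
      ∀ a : F, kd g.1 (X - C a) = 0 := by
  have hlf : Fact l.Prime := ⟨hl⟩
  have : NeZero b := ⟨by omega⟩
  obtain ⟨p, hp⟩ := CharP.exists F
  have : Fact p.Prime := ⟨CharP.char_is_prime F p⟩
  have hcard := FiniteField.natCard_extension F p b
  have hfr := FiniteField.finrank_extension F p b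
  let β := Module.finBasisOfFinrankEq F (FiniteField.Extension F p b) hfr
  have hq : 1 < Nat.card F := Finite.one_lt_card
  have hunits : Nat.card (FiniteField.Extension F p b)ˣ = Nat.card F ^ b - 1 := by
    rw [Nat.card_units, hcard]
  have hdvd : l ∣ Nat.card (FiniteField.Extension F p b)ˣ := by
    rw [hunits, ← Nat.modEq_iff_dvd' (Nat.one_le_pow _ _ (by omega))]
    apply Nat.ModEq.symm
    rw [← ZMod.natCast_eq_natCast_iff, Nat.cast_pow, Nat.cast_one, ← h, pow_orderOf_eq_one]
  obtain ⟨x, hx⟩ := exists_prime_orderOf_dvd_card' l hdvd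
  have hinj : Function.Injective (Algebra.leftMulMatrix β) := Algebra.leftMulMatrix_injective β
  let M : GL (Fin b) F := Units.map (Algebra.leftMulMatrix β).toMonoidHom x
  have hM : orderOf M = l := by
    rw [← hx]
    exact orderOf_injective _ (Units.map_injective hinj) x
  have hM1 : (M : Matrix (Fin b) (Fin b) F) = Algebra.leftMulMatrix β (x : FiniteField.Extension F p b) := rfl
  have hM2 : ((M⁻¹ : GL (Fin b) F) : Matrix (Fin b) (Fin b) F) =
      Algebra.leftMulMatrix β ((x : FiniteField.Extension F p b)⁻¹) := by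
    rw [← Units.val_inv_eq_inv_val]
    rfl
  have hl2 : l ≠ 2 := by
    rintro rfl
    have h1 : ∀ y : ZMod 2, orderOf y ≤ 1 := by
      intro y
      fin_cases y
      · change orderOf (0 : ZMod 2) ≤ 1
        by_contra hc
        have h2 := pow_orderOf_eq_one (0 : ZMod 2)
        rw [zero_pow (by omega)] at h2
        exact zero_ne_one h2
      · change orderOf (1 : ZMod 2) ≤ 1
        rw [orderOf_one]
    have := h1 ((Nat.card F : ℕ) : ZMod 2)
    omega
  -- `aeval` of left multiplications
  have hae : ∀ (y : FiniteField.Extension F p b) (Q : F[X]), Polynomial.aeval (Algebra.leftMulMatrix β y) Q =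
      Algebra.leftMulMatrix β (Polynomial.aeval y Q) := fun y Q => Polynomial.aeval_algHom_apply _ _ _
  have hun : ∀ y : FiniteField.Extension F p b, y ≠ 0 → IsUnit (Algebra.leftMulMatrix β y) := by
    intro y hy
    exact (Units.mk0 y hy).isUnit.map (Algebra.leftMulMatrix β)
  have hx1 : (x : FiniteField.Extension F p b) ≠ 1 := by
    intro h1
    have h2 : x = 1 := Units.ext h1
    rw [h2, orderOf_one] at hx
    exact hl.one_lt.ne hx
  -- `x` is not in `F`
  have hnF : ∀ a : F, (x : FiniteField.Extension F p b) ≠ algebraMap F _ a := by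
    intro a ha
    have ha0 : a ≠ 0 := by
      rintro rfl
      rw [map_zero] at ha
      exact x.ne_zero ha
    have h1 : orderOf (Units.mk0 a ha0) = l := by
      rw [← hx, ← orderOf_injective (Units.map (algebraMap F (FiniteField.Extension F p b)).toMonoidHom)
        (Units.map_injective (algebraMap F (FiniteField.Extension F p b)).injective)]
      congr 1
      apply Units.ext
      exact ha.symm
    have h2 : l ∣ Nat.card F - 1 := by
      rw [← h1, ← Nat.card_units]
      exact orderOf_dvd_natCard _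
    have h3 : ((Nat.card F : ℕ) : ZMod l) = 1 := by
      have h4 : Nat.card F ≡ 1 [MOD l] := ((Nat.modEq_iff_dvd' (by omega)).2 h2).symm
      have h5 := (ZMod.natCast_eq_natCast_iff _ _ l).2 h4
      rw [h5, Nat.cast_one]
    rw [h3, orderOf_one] at h
    omega
  have hx2 : (x : FiniteField.Extension F p b) ^ 2 ≠ 1 := by
    intro h1
    have h2 : x ^ 2 = 1 := Units.ext (by rw [Units.val_pow_eq_pow_val, h1, Units.val_one])
    have h3 := orderOf_dvd_of_pow_eq_one h2
    rw [hx] at h3
    exact hl2 ((Nat.prime_dvd_prime_iff_eq hl Nat.prime_two).1 h3)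
  have hinvF : ∀ a : F, ((x : FiniteField.Extension F p b))⁻¹ ≠ algebraMap F _ a := by
    intro a ha
    apply hnF a⁻¹
    rw [map_inv₀, ← ha, inv_inv]
  have hg1 : (SpEmb.levi (Fin b) M).1 = fromBlocks (M : Matrix (Fin b) (Fin b) F) 0 0
      ((M⁻¹ : GL (Fin b) F) : Matrix (Fin b) (Fin b) F)ᵀ := rfl
  refine ⟨SpEmb.levi (Fin b) M, minpoly F (x : FiniteField.Extension F p b), ?_, ?_, ?_, ?_⟩
  · rw [orderOf_injective _ (SpEmb.levi_injective _), hM]
  · intro h1
    apply hx1
    have h2 := minpoly.root (IsIntegral.of_finite F (x : FiniteField.Extension F p b)) h1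
    rw [← h2, map_one]
  · rw [hg1, kd_fromBlocks, kd_of_zero, kd_transpose_of_isUnit, Fintype.card_fin, add_zero]
    · rw [hM2, hae]
      exact hun _ (aeval_inv_ne (by rw [hfr]; exact hb) x.ne_zero hx2)
    · rw [hM1, hae, minpoly.aeval, map_zero]
  · intro a
    rw [hg1, kd_fromBlocks, kd_of_isUnit, kd_transpose_of_isUnit]
    · rw [hM2, hae]
      apply hun
      rw [map_sub, Polynomial.aeval_X, Polynomial.aeval_C]
      exact sub_ne_zero.2 (hinvF a)
    · rw [hM1, hae]
      apply hun
      rw [map_sub, Polynomial.aeval_X, Polynomial.aeval_C]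
      exact sub_ne_zero.2 (hnF a)

end Cfsg.Agent.H212.CovSp
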