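import Cfsg.Agent.H212.CovSp.Elem
import Cfsg.Agent.H659.CovSp
import Cfsg.Agent.H906.Cov.EKill
import Cfsg.Agent.H924.SympForm

/-!
# S2499: the row of the symplectic groups `PSp_{2m}(q)`, `m ≥ 5`, `q` odd

`noTwo_psp10`.
-/

set_option autoImplicit false
set_option linter.unusedSectionVars false

namespace Cfsg.Agent.H212.CovSp

open Module Matrix Polynomial Cfsg Cfsg.Geo Cfsg.Agent.H376 Cfsg.Agent.H278.Cov
open scoped MatrixGroups

section lin

variable {F : Type*} [Field F] {V : Type*} [AddCommGroup V] [Module F V] [FiniteDimensional F V]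

/-- a nilpotent endomorphism and an invariant plane -/
theorem nil_two {T : Module.End F V} {k : ℕ} (hT : T ^ k = 0) {U : Submodule F V} (hU : ∀ u ∈ U, T u ∈ U)
    (hU2 : finrank F U = 2) {u : V} (hu : u ∈ U) : T (T u) = 0 := by
  obtain ⟨T', hT'⟩ : ∃ T' : Module.End F U, T' = T.restrict hU := ⟨_, rfl⟩
  have h1 : ∀ (n : ℕ) (w : U), (((T' ^ n) w : U) : V) = (T ^ n) (w : V) := by
    intro n
    induction n with
    | zero => intro w; rfl
    | succ n ih =>
      intro w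
      rw [pow_succ, pow_succ, Module.End.mul_apply, Module.End.mul_apply, ih, hT']
      rfl
  have h2 : T' ^ k = 0 := by
    refine LinearMap.ext fun w => Subtype.ext ?_
    rw [h1, hT]
    rfl
  have h3 : T'.charpoly = X ^ finrank F U := LinearMap.charpoly_eq_X_pow_iff _ |>.2 (fun w => ⟨k, by rw [h2]; rfl⟩)
  have h4 := LinearMap.aeval_self_charpoly T'
  rw [h3, hU2, map_pow, Polynomial.aeval_X] at h4
  have h5 := h1 2 ⟨u, hu⟩
  rw [h4, pow_two, Module.End.mul_apply] at h5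
  exact h5.symm

end lin

variable {F : Type} [Field F] {m : ℕ}

/-- the inclusion in `GL` -/
def tg (m : ℕ) (F : Type) [Field F] : symplecticGroup (Fin m) F →* GL (Fin m ⊕ Fin m) F :=
  (Units.map (symplecticGroup (Fin m) F).subtype).comp toUnits.toMonoidHom

theorem tg_coe (x : symplecticGroup (Fin m) F) : ((tg m F x : GL (Fin m ⊕ Fin m) F) : Matrix _ _ F) = x.1 := rfl

theorem tg_injective : Function.Injective (tg m F) := by
  intro x y h
  apply Subtype.ext
  exact congrArg Units.val h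

/-- the subspace `W` is invariant under `H` -/
def Inv (H : Subgroup (symplecticGroup (Fin m) F)) (W : Submodule F (Fin m ⊕ Fin m → F)) : Prop :=
  ∀ x ∈ H, ∀ w ∈ W, x.1 *ᵥ w ∈ W

theorem exists_inv {H : Subgroup (symplecticGroup (Fin m) F)} (h : Red (H.map (tg m F))) :
    ∃ W : Submodule F (Fin m ⊕ Fin m → F), W ≠ ⊥ ∧ W ≠ ⊤ ∧ Inv H W := by
  obtain ⟨W, h1, h2, h3⟩ := h
  refine ⟨W, h1, h2, fun x hx w hw => ?_⟩
  exact (h3 (Subgroup.mem_map_of_mem _ hx) w).1 hw

/-- `og_sp` for subgroups of `Sp_{2m}(q)` -/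
theorem og [Fintype F] (hP : H659.CovCore.S5948Stmt.{0}) (hodd : Odd (Fintype.card F))
    {H : Subgroup (symplecticGroup (Fin m) F)} (hH : H ≠ ⊤) {k : ℕ} {x : symplecticGroup (Fin m) F} (hx : x ∈ H)
    (hnum : Num (Fintype.card F) (2 * m) k (orderOf x)) :
    (∃ W : Submodule F (Fin m ⊕ Fin m → F), W ≠ ⊥ ∧ W ≠ ⊤ ∧ Inv H W) ∨ Ext (Nat.gcd (2 * m) k) (H.map (tg m F)) := by
  have hcard : Fintype.card (Fin m ⊕ Fin m) = 2 * m := by rw [Fintype.card_sum, Fintype.card_fin, two_mul]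
  have h1 : FixesForm (matrixSet (H.map (tg m F))) (sympForm m F) := by
    rintro _ ⟨_, ⟨y, hy, rfl⟩, rfl⟩ u v
    exact fm_mulVec y u v
  obtain ⟨y, hy⟩ : ∃ y, y ∉ H := by
    by_contra hcon
    push Not at hcon
    exact hH (eq_top_iff.2 fun y _ => hcon y)
  have h2 : ∃ x : GL (Fin m ⊕ Fin m) F, FixesForm {(x : Matrix _ _ F)} (sympForm m F) ∧ x ∉ H.map (tg m F) := by
    refine ⟨tg m F y, ?_, ?_⟩
    · rintro _ rfl u v
      exact fm_mulVec y u v
    · rintro ⟨z, hz, hzy⟩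
      rw [tg_injective hzy] at hz
      exact hy hz
  have h3 := H659.CovSp.og_sp hP hodd H924.isSymplecticForm_sympForm h1 h2 (Subgroup.mem_map_of_mem _ hx) (k := k)
    (by rw [hcard, orderOf_injective _ tg_injective]; exact hnum)
  rw [hcard] at h3
  exact h3.imp exists_inv id

theorem orderOf_conj' {G : Type*} [Group G] (g x : G) : orderOf (g * x * g⁻¹) = orderOf x := by
  have h := (MulAut.conj g).orderOf_eq x
  rwa [MulAut.conj_apply] at h

/-- the consequence of `ext_dvd` -/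
theorem ext_dvd' [Finite F] {H : Subgroup (symplecticGroup (Fin m) F)} {d : ℕ} (h : Ext d (H.map (tg m F))) :
    ∃ r : ℕ, r.Prime ∧ r ∣ d ∧ ∀ g x : symplecticGroup (Fin m) F, g * x * g⁻¹ ∈ H → Nat.Coprime (orderOf x) r →
      ∀ P : F[X], r ∣ kd x.1 P := by
  obtain ⟨r, E, hr, hrd, hE, hle⟩ := h
  refine ⟨r, hr, hrd, fun g x hx hco P => ?_⟩
  have h1 : orderOf (tg m F (g * x * g⁻¹)) = orderOf x := by
    rw [orderOf_injective _ tg_injective, orderOf_conj']
  have h2 := H906.Cov.ext_dvd hr hE (hle (Subgroup.mem_map_of_mem _ hx)) (by rw [h1]; exact hco) P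
  have h3 : ((tg m F (g * x * g⁻¹) : GL (Fin m ⊕ Fin m) F) : Matrix _ _ F) =
      ((tg m F g : GL (Fin m ⊕ Fin m) F) : Matrix (Fin m ⊕ Fin m) (Fin m ⊕ Fin m) F) * x.1 *
        (((tg m F g)⁻¹ : GL (Fin m ⊕ Fin m) F) : Matrix (Fin m ⊕ Fin m) (Fin m ⊕ Fin m) F) := by
    rw [map_mul, map_mul, map_inv]
    rfl
  rw [h3] at h2
  have h4 := kd_conj (tg m F g) x.1 P
  unfold kd at h4 ⊢
  rw [h4] at h2
  exact h2

/-- elements which avoid the extension field groups -/
theorem av_ext [Finite F] {H : Subgroup (symplecticGroup (Fin m) F)} {d : ℕ} (h : Ext d (H.map (tg m F)))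
    {x : symplecticGroup (Fin m) F}
    (hx : ∀ r : ℕ, r.Prime → r ∣ d → ∃ (n : ℕ) (P : F[X]), Nat.Coprime (orderOf (x ^ n)) r ∧ ¬ r ∣ kd (x ^ n).1 P) :
    Av x H := by
  intro g hg
  obtain ⟨r, hr, hrd, h1⟩ := ext_dvd' h
  obtain ⟨n, P, h2, h3⟩ := hx r hr hrd
  apply h3
  refine h1 g (x ^ n) ?_ h2 P
  rw [← conj_pow]
  exact H.pow_mem hg n

theorem kd_conj' (g x : symplecticGroup (Fin m) F) (P : F[X]) : kd (g * x * g⁻¹).1 P = kd x.1 P :=
  kd_conj (tg m F g) x.1 P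

theorem mul_mulVec (x y : symplecticGroup (Fin m) F) (v : Fin m ⊕ Fin m → F) : (x * y).1 *ᵥ v = x.1 *ᵥ (y.1 *ᵥ v) := by
  rw [Submonoid.coe_mul, Matrix.mulVec_mulVec]

theorem one_mulVec' (v : Fin m ⊕ Fin m → F) : (1 : symplecticGroup (Fin m) F).1 *ᵥ v = v := by
  rw [Submonoid.coe_one, Matrix.one_mulVec]

theorem inv_pow_mem {x : symplecticGroup (Fin m) F} {W : Submodule F (Fin m ⊕ Fin m → F)}
    (h : ∀ w ∈ W, x.1 *ᵥ w ∈ W) (n : ℕ) : ∀ w ∈ W, (x ^ n).1 *ᵥ w ∈ W := by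
  induction n with
  | zero =>
    intro w hw
    rw [pow_zero, one_mulVec']
    exact hw
  | succ n ih =>
    intro w hw
    rw [pow_succ, mul_mulVec]
    exact ih _ (h w hw)

/-- the image of a subspace -/
def tr (g : symplecticGroup (Fin m) F) (W : Submodule F (Fin m ⊕ Fin m → F)) : Submodule F (Fin m ⊕ Fin m → F) :=
  W.comap (Matrix.toLin' g.1)

theorem mem_tr {g : symplecticGroup (Fin m) F} {W : Submodule F (Fin m ⊕ Fin m → F)} {v : Fin m ⊕ Fin m → F} :
    v ∈ tr g W ↔ g.1 *ᵥ v ∈ W := by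
  unfold tr
  rw [Submodule.mem_comap, Matrix.toLin'_apply]

theorem tr_inv {g x : symplecticGroup (Fin m) F} {W : Submodule F (Fin m ⊕ Fin m → F)}
    (h : ∀ w ∈ W, (g * x * g⁻¹).1 *ᵥ w ∈ W) : ∀ w ∈ tr g W, x.1 *ᵥ w ∈ tr g W := by
  intro w hw
  rw [mem_tr] at hw ⊢
  have h1 := h _ hw
  rw [← mul_mulVec, inv_mul_cancel_right, mul_mulVec] at h1
  exact h1

theorem map_tr (g : symplecticGroup (Fin m) F) (W : Submodule F (Fin m ⊕ Fin m → F)) : tr g⁻¹ (tr g W) = W := by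
  ext v
  rw [mem_tr, mem_tr, ← mul_mulVec, mul_inv_cancel, one_mulVec']

theorem tr_bot (g : symplecticGroup (Fin m) F) : tr g ⊥ = ⊥ := by
  ext v
  rw [mem_tr, Submodule.mem_bot, Submodule.mem_bot]
  constructor
  · intro h
    rw [← one_mulVec' v, ← inv_mul_cancel g, mul_mulVec, h, Matrix.mulVec_zero]
  · rintro rfl
    rw [Matrix.mulVec_zero]

theorem tr_top (g : symplecticGroup (Fin m) F) : tr g ⊤ = ⊤ := by
  ext v
  rw [mem_tr]
  simp

theorem finrank_tr (g : symplecticGroup (Fin m) F) (W : Submodule F (Fin m ⊕ Fin m → F)) :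
    finrank F (tr g W) = finrank F W := by
  have key : ∀ (g : symplecticGroup (Fin m) F) (W : Submodule F (Fin m ⊕ Fin m → F)),
      finrank F (tr g W) ≤ finrank F W := by
    intro g W
    have h1 : Function.Injective ((Matrix.toLin' g.1).restrict (p := tr g W) (q := W) (fun v hv => hv)) := by
      intro v w h
      have h2 : g.1 *ᵥ v.1 = g.1 *ᵥ w.1 := congrArg Subtype.val h
      apply Subtype.ext
      have h3 := congrArg (fun u => (g⁻¹).1 *ᵥ u) h2
      simp only [← mul_mulVec, inv_mul_cancel, one_mulVec'] at h3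
      exact h3
    exact LinearMap.finrank_le_finrank_of_injective h1
  apply le_antisymm (key g W)
  have h1 := key g⁻¹ (tr g W)
  rwa [map_tr] at h1

theorem irr_conj {x g : symplecticGroup (Fin m) F}
    (h : ∀ W : Submodule F (Fin m ⊕ Fin m → F), (∀ w ∈ W, x.1 *ᵥ w ∈ W) → W = ⊥ ∨ W = ⊤)
    {W : Submodule F (Fin m ⊕ Fin m → F)} (hW : ∀ w ∈ W, (g * x * g⁻¹).1 *ᵥ w ∈ W) : W = ⊥ ∨ W = ⊤ := by
  rcases h _ (tr_inv hW) with h1 | h1
  · left
    rw [← map_tr g W, h1, tr_bot]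
  · right
    rw [← map_tr g W, h1, tr_top]

/-! ### The form -/

theorem fm_self (v : Fin m ⊕ Fin m → F) : fm v v = 0 := by
  rw [fm_eq]
  apply Finset.sum_eq_zero
  intro i _
  ring

/-- the form as a bilinear form -/
noncomputable def Bf (m : ℕ) (F : Type) [Field F] : LinearMap.BilinForm F (Fin m ⊕ Fin m → F) :=
  Matrix.toBilin' (J (Fin m) F)

theorem Bf_apply (v w : Fin m ⊕ Fin m → F) : Bf m F v w = fm v w := Matrix.toBilin'_apply' _ _ _

theorem Bf_nondeg : (Bf m F).Nondegenerate :=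
  LinearMap.BilinForm.nondegenerate_toBilin'_of_det_ne_zero' _ (Matrix.isUnit_det_J (Fin m) F).ne_zero

theorem Bf_refl : (Bf m F).IsRefl := by
  have h : (Bf m F).IsAlt := fun v => by rw [Bf_apply, fm_self]
  exact h.isRefl

theorem eq_zero_of_fm {v : Fin m ⊕ Fin m → F} (h : ∀ w, fm w v = 0) : v = 0 := by
  by_contra hv
  obtain ⟨w, hw⟩ := (H924.isSymplecticForm_sympForm (m := m) (F := F)).nondegenerate v hv |>.1
  exact hw (h w)

/-- the orthogonal space -/
noncomputable def pe (W : Submodule F (Fin m ⊕ Fin m → F)) : Submodule F (Fin m ⊕ Fin m → F) :=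
  (Bf m F).orthogonal W

theorem mem_pe {W : Submodule F (Fin m ⊕ Fin m → F)} {v : Fin m ⊕ Fin m → F} : v ∈ pe W ↔ ∀ w ∈ W, fm w v = 0 := by
  unfold pe
  rw [LinearMap.BilinForm.mem_orthogonal_iff]
  constructor
  · intro h w hw
    rw [← Bf_apply]
    exact h w hw
  · intro h w hw
    change Bf m F w v = 0
    rw [Bf_apply]
    exact h w hw

theorem pe_ne_bot {W : Submodule F (Fin m ⊕ Fin m → F)} (hW : W ≠ ⊤) : pe W ≠ ⊥ := by
  intro h
  have h1 := LinearMap.BilinForm.finrank_orthogonal (Bf_nondeg (m := m) (F := F)) W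
  have h2 : finrank F ((Bf m F).orthogonal W) = 0 := by
    have : (Bf m F).orthogonal W = ⊥ := h
    rw [this, finrank_bot]
  rw [h2] at h1
  have h3 := Submodule.finrank_lt hW
  omega

theorem pe_inv {K : Subgroup (symplecticGroup (Fin m) F)} {W : Submodule F (Fin m ⊕ Fin m → F)} (hW : Inv K W) :
    Inv K (pe W) := by
  intro x hx v hv
  rw [mem_pe] at hv ⊢
  intro w hw
  have h1 := hv _ (hW x⁻¹ (K.inv_mem hx) w hw)
  rw [← fm_mulVec x, ← mul_mulVec, mul_inv_cancel, one_mulVec'] at h1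
  exact h1

/-- an invariant subspace consisting of fixed vectors -/
theorem exists_small [Finite F] {K : Subgroup (symplecticGroup (Fin m) F)} {W : Submodule F (Fin m ⊕ Fin m → F)}
    (hW0 : W ≠ ⊥) (hW1 : W ≠ ⊤) (hW : Inv K W) (hm : 5 ≤ m) {y : symplecticGroup (Fin m) F} (hy : y ∈ K) {l : ℕ}
    (hl : l.Prime) (hyl : y ^ l = 1) (hord : orderOf ((Nat.card F : ℕ) : ZMod l) = 2 * m - 2)
    (hkd : kd y.1 (X - C (1 : F)) = 2) :
    ∃ U : Submodule F (Fin m ⊕ Fin m → F), U ≠ ⊥ ∧ Inv K U ∧ ∀ u ∈ U, y.1 *ᵥ u = u := by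
  have hl0 : (l : F) ≠ 0 := cast_ne_zero hl (by omega)
  have h1 := kd_add_range (F := F) y.1
  rw [hkd, Fintype.card_sum, Fintype.card_fin] at h1
  have h3 : (Matrix.toLin' y.1 : Module.End F (Fin m ⊕ Fin m → F)) ^ l = 1 := by
    rw [← toLin'_coe_pow, hyl, Submonoid.coe_one, Matrix.toLin'_one]
    rfl
  rcases le_or_ge hl h3 hl0 (by omega) W (fun w hw => hW y hy w hw) with h4 | h4
  · refine ⟨W, hW0, hW, fun u hu => ?_⟩
    have h5 := LinearMap.mem_ker.1 (h4 hu)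
    rw [LinearMap.sub_apply, sub_eq_zero] at h5
    exact h5
  · refine ⟨pe W, pe_ne_bot hW1, pe_inv hW, fun v hv => ?_⟩
    rw [← sub_eq_zero]
    apply eq_zero_of_fm
    intro z
    rw [mem_pe] at hv
    have h5 : ∀ u, fm (y.1 *ᵥ u - u) v = 0 := fun u => hv _ (h4 ⟨u, by
      rw [LinearMap.sub_apply, Matrix.toLin'_apply]
      rfl⟩)
    have h6 := h5 ((y⁻¹).1 *ᵥ z)
    rw [← mul_mulVec, mul_inv_cancel, one_mulVec'] at h6
    have h7 : fm z (y.1 *ᵥ v) = fm ((y⁻¹).1 *ᵥ z) v := by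
      rw [← fm_mulVec y ((y⁻¹).1 *ᵥ z), ← mul_mulVec, mul_inv_cancel, one_mulVec']
    have h8 : fm z (y.1 *ᵥ v - v) = fm z (y.1 *ᵥ v) - fm z v := by
      rw [← Bf_apply, ← Bf_apply, ← Bf_apply, map_sub]
    have h9 : fm (z - (y⁻¹).1 *ᵥ z) v = fm z v - fm ((y⁻¹).1 *ᵥ z) v := by
      rw [← Bf_apply, ← Bf_apply, ← Bf_apply, map_sub, LinearMap.sub_apply]
    rw [h9] at h6
    rw [h8, h7]
    linear_combination -h6

/-- **The symplectic groups `Sp_{2m}(q)`, `m ≥ 5`, `q` odd** -/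
theorem noTwo_sp10 [Fintype F] (hP : H659.CovCore.S5948Stmt.{0}) (hm : 5 ≤ m) (hodd : Odd (Fintype.card F)) :
    NoTwo (symplecticGroup (Fin m) F) := by
  obtain ⟨a, ha1, ha2⟩ := exists_a (F := F) hodd hm
  obtain ⟨b, ⟨n₁, hb1⟩, ⟨n₂, l, hl, hbl, -, hord, hkd, v₀, w₀, hv₀, hw₀, hvw⟩, ⟨n₃, hb3, hb4⟩⟩ :=
    exists_b (F := F) hodd hm
  obtain ⟨c₁, hc1, hc2⟩ := exists_c1 (F := F) hodd hm
  obtain ⟨c₂, ⟨j₁, j₂, l', k, hl', hcl, -, hord', hkd', hnil, hlag⟩, hd2⟩ := exists_c2 (F := F) hodd hm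
  have hgcd : Nat.gcd (2 * m) (2 * m - 2) ∣ 2 := by
    have h1 := Nat.gcd_dvd_left (2 * m) (2 * m - 2)
    have h2 := Nat.gcd_dvd_right (2 * m) (2 * m - 2)
    have h3 := Nat.dvd_sub h1 h2
    have h4 : 2 * m - (2 * m - 2) = 2 := by omega
    rwa [h4] at h3
  -- a proper subgroup containing a conjugate of `b` is reducible
  have keyB : ∀ (K : Subgroup (symplecticGroup (Fin m) F)) (g : symplecticGroup (Fin m) F), K ≠ ⊤ →
      g * b * g⁻¹ ∈ K → ∃ W : Submodule F (Fin m ⊕ Fin m → F), W ≠ ⊥ ∧ W ≠ ⊤ ∧ Inv K W := by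
    intro K g hK hg
    have h1 : g * b ^ n₁ * g⁻¹ ∈ K := by
      rw [← conj_pow]
      exact K.pow_mem hg n₁
    rcases og hP hodd hK h1 (k := 2 * m - 2) (by rw [orderOf_conj']; exact hb1) with h | h
    · exact h
    · exfalso
      obtain ⟨r, hr, hrd, h2⟩ := ext_dvd' h
      have hr2 : r = 2 := (Nat.prime_dvd_prime_iff_eq hr Nat.prime_two).1 (hrd.trans hgcd)
      subst hr2
      have h3 := h2 g (b ^ n₃) (by rw [← conj_pow]; exact K.pow_mem hg n₃) hb3 (X - C 1)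
      rw [hb4] at h3
      omega
  -- a proper subgroup containing a conjugate of `a` is of extension type
  have keyA : ∀ (H : Subgroup (symplecticGroup (Fin m) F)) (g : symplecticGroup (Fin m) F),
      g * a * g⁻¹ ∈ H → ∀ W : Submodule F (Fin m ⊕ Fin m → F), Inv H W → W = ⊥ ∨ W = ⊤ := fun H g hg W hW =>
    irr_conj ha2 (hW _ hg)
  refine noTwo_of_two (a := a) (b := b) (fun H hH => ?_) (fun H K hH hK haH hbK => ?_)
  · by_contra hcon
    rw [not_or] at hcon
    obtain ⟨g, hg⟩ := not_av hcon.1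
    obtain ⟨g', hg'⟩ := not_av hcon.2
    obtain ⟨W, hW0, hW1, hW⟩ := keyB H g' hH.1 hg'
    rcases keyA H g hg W hW with h | h
    · exact hW0 h
    · exact hW1 h
  · -- `H` is of extension type
    have hHext : Ext (2 * m) (H.map (tg m F)) := by
      rcases og hP hodd hH.1 haH (k := 2 * m) ha1 with ⟨W, hW0, hW1, hW⟩ | h
      · exfalso
        rcases keyA H 1 (by simpa using haH) W hW with h | h
        · exact hW0 h
        · exact hW1 h
      · rwa [Nat.gcd_self] at h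
    have hav1 : Av c₁ H := av_ext hHext hc2
    have hav2 : Av c₂ H := av_ext hHext hd2
    obtain ⟨W, hW0, hW1, hW⟩ := keyB K 1 hK.1 (by simpa using hbK)
    obtain ⟨U, hU0, hU, hUfix⟩ := exists_small hW0 hW1 hW hm (K.pow_mem hbK n₂) hl hbl hord hkd
    have hUle : U ≤ LinearMap.ker (Polynomial.aeval (Matrix.toLin' (b ^ n₂).1) (X - C (1 : F))) := by
      intro u hu
      rw [mem_ker_X_sub_C, one_smul]
      exact hUfix u hu
    have hU2 : finrank F U ≤ 2 := by
      rw [← hkd]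
      exact Submodule.finrank_mono hUle
    have hU1 : 0 < finrank F U := Module.finrank_pos_iff.2 (Submodule.nontrivial_iff_ne_bot.2 hU0)
    rcases Nat.lt_or_ge (finrank F U) 2 with h2 | h2
    · -- a line: `c₁` has no eigenvectors
      refine ⟨c₁, hav1, fun g hg => ?_⟩
      have hUone : finrank F U = 1 := by omega
      obtain ⟨u, hu0, hu⟩ := finrank_eq_one_iff'.1 hUone
      obtain ⟨α, hα⟩ := hu ⟨(g * c₁ * g⁻¹).1 *ᵥ u.1, hU _ hg u.1 u.2⟩
      have h3 : (g * c₁ * g⁻¹).1 *ᵥ u.1 = α • u.1 := (congrArg Subtype.val hα).symm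
      apply hu0
      apply Subtype.ext
      exact eq_zero_of_kd (by rw [kd_conj']; exact hc1 α) h3
    · -- a plane
      have hUtwo : finrank F U = 2 := by omega
      have hUeq : U = LinearMap.ker (Polynomial.aeval (Matrix.toLin' (b ^ n₂).1) (X - C (1 : F))) := by
        apply Submodule.eq_of_le_of_finrank_le hUle
        have : kd (b ^ n₂).1 (X - C (1 : F)) ≤ finrank F U := by omega
        exact this
      refine ⟨c₂, hav2, fun g hg => ?_⟩
      have hvU : v₀ ∈ U := by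
        rw [hUeq, mem_ker_X_sub_C, one_smul]
        exact hv₀
      have hwU : w₀ ∈ U := by
        rw [hUeq, mem_ker_X_sub_C, one_smul]
        exact hw₀
      have hT : ∀ w ∈ tr g U, c₂.1 *ᵥ w ∈ tr g U := tr_inv (hU _ hg)
      have hT2 : finrank F (tr g U) = 2 := by rw [finrank_tr, hUtwo]
      have hmem : ∀ v ∈ U, (g⁻¹).1 *ᵥ v ∈ tr g U := by
        intro v hv
        rw [mem_tr, ← mul_mulVec, mul_inv_cancel, one_mulVec']
        exact hv
      -- the plane is fixed by the large part of `c₂`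
      have hl0 : (l' : F) ≠ 0 := cast_ne_zero hl' (by omega)
      have h3 : (Matrix.toLin' (c₂ ^ j₁).1 : Module.End F (Fin m ⊕ Fin m → F)) ^ l' = 1 := by
        rw [← toLin'_coe_pow, hcl, Submonoid.coe_one, Matrix.toLin'_one]
        rfl
      have h4 := kd_add_range (F := F) (c₂ ^ j₁).1
      rw [hkd', Fintype.card_sum, Fintype.card_fin] at h4
      have hfix : ∀ v ∈ tr g U, (c₂ ^ j₁).1 *ᵥ v = v := by
        rcases le_or_ge hl' h3 hl0 (by omega) (tr g U) (fun w hw => inv_pow_mem hT j₁ w hw) with h5 | h5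
        · intro v hv
          have h6 := LinearMap.mem_ker.1 (h5 hv)
          rw [LinearMap.sub_apply, sub_eq_zero] at h6
          exact h6
        · exfalso
          have h6 := Submodule.finrank_mono h5
          omega
      have hnil' : ((Matrix.toLin' (c₂ ^ j₂).1 : Module.End F (Fin m ⊕ Fin m → F)) - 1) ^ k = 0 := by
        have h5 : ((Matrix.toLin' (c₂ ^ j₂).1 : Module.End F (Fin m ⊕ Fin m → F)) - 1) =
            Matrix.toLin' ((c₂ ^ j₂).1 - 1) := by
          rw [map_sub, Matrix.toLin'_one]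
          rfl
        rw [h5, ← Matrix.toLin'_pow, hnil, map_zero]
      have hsq : ∀ v ∈ tr g U, (c₂ ^ j₂).1 *ᵥ ((c₂ ^ j₂).1 *ᵥ v - v) - ((c₂ ^ j₂).1 *ᵥ v - v) = 0 := by
        intro v hv
        have h5 := nil_two hnil' (U := tr g U) (fun u hu => (tr g U).sub_mem (inv_pow_mem hT j₂ u hu) hu) hT2 hv
        exact h5
      have h5 := hlag _ _ (hfix _ (hmem _ hvU)) (hfix _ (hmem _ hwU)) (hsq _ (hmem _ hvU)) (hsq _ (hmem _ hwU))
      rw [fm_mulVec] at h5
      exact hvw h5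

/-- **COV-SP10**: the row of `PSp_{2m}(q)`, `m ≥ 5`, `q` odd, from the text of S5948 -/
theorem noTwo_psp10 [Fintype F] (hP : H659.CovCore.S5948Stmt.{0}) (hm : 5 ≤ m) (hodd : Odd (Fintype.card F)) :
    NoTwo (PSp m F) :=
  (noTwo_sp10 hP hm hodd).of_surjective (QuotientGroup.mk' _) (QuotientGroup.mk'_surjective _)

end Cfsg.Agent.H212.CovSp
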